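import Mathlib

/-!
# Subgroups generated by the elements of minimal class size
-/

set_option autoImplicit false

namespace Cfsg.Agent.Lib.ClassSizeMin.Basic

open scoped commutatorElement

variable {G : Type*} [Group G] [Finite G]

/-- An element of least non-central class size moves a normal abelian subgroup by central elements. -/
theorem commutator_mem_center (A : Subgroup G) [A.Normal] (hA : IsMulCommutative A) (x : G) (m : ℕ)
    (hx : (Subgroup.centralizer ({x} : Set G)).index ≤ m)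
    (hmin : ∀ y : G, 1 < (Subgroup.centralizer ({y} : Set G)).index →
      m ≤ (Subgroup.centralizer ({y} : Set G)).index)
    (a : G) (ha : a ∈ A) : ⁅x, a⁆ ∈ Subgroup.center G := by
  classical
  have hAn : ∀ g : G, ∀ b ∈ A, g * b * g⁻¹ ∈ A := fun g b hb => Subgroup.Normal.conj_mem ‹_› b hb g
  have hcomm : ∀ u ∈ A, ∀ v ∈ A, u * v = v * u := fun u hu v hv => setLike_mul_comm hu hv
  have hmem : ∀ b ∈ A, ⁅x, b⁆ ∈ A := fun b hb => by
    rw [commutatorElement_def]; exact mul_mem (hAn x b hb) (inv_mem hb)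
  set c := ⁅x, a⁆ with hc
  by_cases hc1 : c = 1
  · rw [hc1]; exact one_mem _
  set C := Subgroup.centralizer ({x} : Set G) with hC
  set D := Subgroup.centralizer ({c} : Set G) with hD
  -- the image of `A` under commutation with `x`
  let φ : A → A := fun b => ⟨⁅x, (b : G)⁆, hmem b b.2⟩
  let I : Set G := Set.range fun b : A => ((φ b : A) : G)
  have hI : I.ncard = C.relIndex A := by
    have hφ : ∀ u v : A, φ (u * v) = φ u * φ v := fun u v => Subtype.ext (by
      change ⁅x, (u : G) * v⁆ = ⁅x, (u : G)⁆ * ⁅x, (v : G)⁆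
      simp only [commutatorElement_def]
      have h := hcomm _ (hAn x v v.2) _ (inv_mem u.2)
      calc x * (↑u * ↑v) * x⁻¹ * (↑u * ↑v : G)⁻¹
          = (x * u * x⁻¹) * (((x * v * x⁻¹) * (v : G)⁻¹) * (u : G)⁻¹) := by group
        _ = (x * u * x⁻¹) * ((u : G)⁻¹ * ((x * v * x⁻¹) * (v : G)⁻¹)) := by
            rw [hcomm _ (mul_mem (hAn x v v.2) (inv_mem v.2)) _ (inv_mem u.2)]
        _ = _ := by group)
    let Φ : A →* A := MonoidHom.mk' φ hφ
    have hker : Φ.ker = C.subgroupOf A := by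
      ext b
      rw [MonoidHom.mem_ker, Subgroup.mem_subgroupOf, hC, Subgroup.mem_centralizer_singleton_iff]
      change φ b = 1 ↔ _
      rw [Subtype.ext_iff]
      change ⁅x, (b : G)⁆ = 1 ↔ _
      rw [commutatorElement_eq_one_iff_mul_comm]
      exact eq_comm
    rw [Subgroup.relIndex, ← hker, Subgroup.index_ker, ← Nat.card_coe_set_eq]
    refine Nat.card_congr ?_
    exact {
      toFun := fun u => ⟨⟨u.1, by obtain ⟨b, hb⟩ := u.2; exact hb ▸ (φ b).2⟩,
        by obtain ⟨b, hb⟩ := u.2; exact ⟨b, Subtype.ext hb⟩⟩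
      invFun := fun u => ⟨((u : A) : G), by obtain ⟨b, hb⟩ := u.2; exact ⟨b, congrArg Subtype.val hb⟩⟩
      left_inv := fun u => rfl
      right_inv := fun u => rfl }
  have hcI : c ∈ I := ⟨⟨a, ha⟩, rfl⟩
  -- `C` permutes the non-trivial elements of the image
  have horb : (D.subgroupOf C).index < I.ncard := by
    let e : C ⧸ D.subgroupOf C → G := Quotient.lift (fun g : C => (g : G) * c * (g : G)⁻¹) (by
      intro g h hgh
      have h' : g⁻¹ * h ∈ D.subgroupOf C := QuotientGroup.leftRel_apply.1 hgh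
      rw [Subgroup.mem_subgroupOf, hD, Subgroup.mem_centralizer_singleton_iff] at h'
      simp only [Subgroup.coe_mul, Subgroup.coe_inv] at h'
      calc (g : G) * c * (g : G)⁻¹ = (g : G) * (c * ((g : G)⁻¹ * h)) * (h : G)⁻¹ := by group
        _ = (g : G) * (((g : G)⁻¹ * h) * c) * (h : G)⁻¹ := by rw [h']
        _ = _ := by group)
    have he : Function.Injective e := by
      intro u v
      induction u using QuotientGroup.induction_on with | H g => ?_
      induction v using QuotientGroup.induction_on with | H h => ?_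
      intro huv
      have huv' : (g : G) * c * (g : G)⁻¹ = (h : G) * c * (h : G)⁻¹ := huv
      rw [QuotientGroup.eq, Subgroup.mem_subgroupOf, hD, Subgroup.mem_centralizer_singleton_iff]
      simp only [Subgroup.coe_mul, Subgroup.coe_inv]
      calc (g : G)⁻¹ * h * c = (g : G)⁻¹ * ((h : G) * c * (h : G)⁻¹) * h := by group
        _ = (g : G)⁻¹ * ((g : G) * c * (g : G)⁻¹) * h := by rw [huv']
        _ = _ := by group
    have hsub : Set.range e ⊆ I \ {1} := by
      rintro _ ⟨u, rfl⟩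
      induction u using QuotientGroup.induction_on with | H g => ?_
      have hg : (g : G) * x = x * g := Subgroup.mem_centralizer_singleton_iff.1 g.2
      refine ⟨⟨⟨_, hAn g a ha⟩, ?_⟩, ?_⟩
      · change ⁅x, (g : G) * a * (g : G)⁻¹⁆ = (g : G) * c * (g : G)⁻¹
        have hgx : (g : G) * x * (g : G)⁻¹ = x := by rw [hg, mul_inv_cancel_right]
        conv_lhs => arg 1; rw [← hgx]
        rw [hc, ← conjugate_commutatorElement]
      · intro h
        have h' : (g : G) * c * (g : G)⁻¹ = 1 := h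
        exact hc1 (conj_eq_one_iff.1 h')
    have h1 : (D.subgroupOf C).index ≤ (I \ {1}).ncard := by
      rw [Subgroup.index, ← Set.ncard_univ]
      refine (Set.ncard_le_ncard_of_injOn e (fun u _ => hsub ⟨u, rfl⟩) he.injOn (Set.toFinite _))
    have h2 : (I \ {1}).ncard < I.ncard :=
      Set.ncard_diff_singleton_lt_of_mem ⟨1, by simp [φ]⟩ (Set.toFinite _)
    omega
  have hcA : c ∈ A := hmem a ha
  have hAD : A ≤ D := fun u hu => Subgroup.mem_centralizer_singleton_iff.2 (hcomm u hu c hcA)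
  have h1 : (D ⊓ C).relIndex D * D.index = D.relIndex C * C.index := by
    rw [Subgroup.relIndex_mul_index inf_le_left, ← Subgroup.inf_relIndex_right D C,
      Subgroup.relIndex_mul_index inf_le_right]
  have hfi : ∀ X Y : Subgroup G, 0 < X.relIndex Y := fun X Y =>
    Nat.pos_of_ne_zero (Subgroup.FiniteIndex.index_ne_zero (H := X.subgroupOf Y))
  have h2 : C.relIndex A ≤ (D ⊓ C).relIndex D := by
    refine le_trans ?_ (Subgroup.relIndex_le_of_le_right hAD (hfi _ _).ne')
    exact Nat.le_of_dvd (hfi _ _) (Subgroup.relIndex_dvd_of_le_left A inf_le_right)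
  have h3 : D.relIndex C < C.relIndex A := hI ▸ horb
  have h4 : 0 < C.index := Nat.pos_of_ne_zero Subgroup.FiniteIndex.index_ne_zero
  have h5 : D.index < C.index := by
    by_contra hle
    have : (D ⊓ C).relIndex D * C.index ≤ D.relIndex C * C.index :=
      (Nat.mul_le_mul_left _ (not_lt.1 hle)).trans h1.le
    have := Nat.le_of_mul_le_mul_right this h4
    omega
  have h6 : D.index ≤ 1 := by
    by_contra h
    have : m ≤ D.index := hmin c (not_le.1 h)
    omega
  have h7 : D.index = 1 := le_antisymm h6 (Nat.pos_of_ne_zero Subgroup.FiniteIndex.index_ne_zero)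
  rw [Subgroup.index_eq_one] at h7
  rw [Subgroup.mem_center_iff]
  intro g
  exact Subgroup.mem_centralizer_singleton_iff.1 (h7 ▸ Subgroup.mem_top g : g ∈ D)

omit [Finite G] in
/-- Class at most three from a self-centralising normal abelian subgroup moved centrally. -/
theorem class_le_three (A : Subgroup G) [A.Normal] (hA : IsMulCommutative A)
    (hCA : Subgroup.centralizer (A : Set G) = A) (S : Set G)
    (hS : ∀ x ∈ S, ∀ a ∈ A, ⁅x, a⁆ ∈ Subgroup.center G) :
    Subgroup.upperCentralSeries ↥(Subgroup.closure S) 3 = ⊤ := by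
  have hK : ∀ x ∈ Subgroup.closure S, ∀ a ∈ A, ⁅x, a⁆ ∈ Subgroup.center G := by
    intro x hx a ha
    induction hx using Subgroup.closure_induction generalizing a with
    | mem y hy => exact hS y hy a ha
    | one => simp
    | mul y z _ _ ihy ihz =>
      rw [show ⁅y * z, a⁆ = y * ⁅z, a⁆ * y⁻¹ * ⁅y, a⁆ by simp only [commutatorElement_def]; group]
      exact mul_mem (Subgroup.Normal.conj_mem inferInstance _ (ihz a ha) y) (ihy a ha)
    | inv y _ ihy =>
      rw [show ⁅y⁻¹, a⁆ = y⁻¹ * ⁅y, a⁆⁻¹ * y by simp only [commutatorElement_def]; group]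
      simpa using Subgroup.Normal.conj_mem inferInstance _ (inv_mem (ihy a ha)) y⁻¹
  have hK2 : ∀ x ∈ Subgroup.closure S, ∀ y ∈ Subgroup.closure S, ⁅x, y⁆ ∈ A := by
    intro x hx y hy
    rw [← hCA, Subgroup.mem_centralizer_iff]
    intro a ha
    have h : ∀ w ∈ Subgroup.closure S, ∀ b ∈ A, ∀ g : G, g * ⁅w, b⁆ = ⁅w, b⁆ * g :=
      fun w hw b hb g => Subgroup.mem_center_iff.1 (hK w hw b hb) g
    have e : ∀ w ∈ Subgroup.closure S, w * a * w⁻¹ = ⁅w, a⁆ * a := fun w _ => by
      simp only [commutatorElement_def]; group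
    have hxy : x * y * a * y⁻¹ * x⁻¹ = y * x * a * x⁻¹ * y⁻¹ := by
      calc x * y * a * y⁻¹ * x⁻¹ = x * (y * a * y⁻¹) * x⁻¹ := by group
        _ = x * (⁅y, a⁆ * a) * x⁻¹ := by rw [e y hy]
        _ = (x * ⁅y, a⁆) * (a * x⁻¹) := by group
        _ = (⁅y, a⁆ * x) * (a * x⁻¹) := by rw [h y hy a ha x]
        _ = ⁅y, a⁆ * (x * a * x⁻¹) := by group
        _ = (⁅y, a⁆ * ⁅x, a⁆) * a := by rw [e x hx, mul_assoc]
        _ = (⁅x, a⁆ * ⁅y, a⁆) * a := by rw [h x hx a ha ⁅y, a⁆]
        _ = ⁅x, a⁆ * (y * a * y⁻¹) := by rw [e y hy, mul_assoc]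
        _ = (⁅x, a⁆ * y) * (a * y⁻¹) := by group
        _ = (y * ⁅x, a⁆) * (a * y⁻¹) := by rw [h x hx a ha y]
        _ = y * (⁅x, a⁆ * a) * y⁻¹ := by group
        _ = y * (x * a * x⁻¹) * y⁻¹ := by rw [e x hx]
        _ = _ := by group
    have hcomm : ⁅x, y⁆ * (y * x * a * x⁻¹ * y⁻¹) * ⁅x, y⁆⁻¹ = x * y * a * y⁻¹ * x⁻¹ := by
      simp only [commutatorElement_def]; group
    rw [← hxy] at hcomm
    have hz : ∀ b : G, ⁅x, y⁆ * b * ⁅x, y⁆⁻¹ = b → b * ⁅x, y⁆ = ⁅x, y⁆ * b := by
      intro b hb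
      calc b * ⁅x, y⁆ = (⁅x, y⁆ * b * ⁅x, y⁆⁻¹) * ⁅x, y⁆ := by rw [hb]
        _ = _ := by group
    have h1 := hz _ hcomm
    have h2 : x * y * a * y⁻¹ * x⁻¹ = (⁅y, a⁆ * ⁅x, a⁆) * a := by
      calc x * y * a * y⁻¹ * x⁻¹ = x * (y * a * y⁻¹) * x⁻¹ := by group
        _ = (x * ⁅y, a⁆) * (a * x⁻¹) := by rw [e y hy]; group
        _ = (⁅y, a⁆ * x) * (a * x⁻¹) := by rw [h y hy a ha x]
        _ = ⁅y, a⁆ * (x * a * x⁻¹) := by group
        _ = (⁅y, a⁆ * ⁅x, a⁆) * a := by rw [e x hx, mul_assoc]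
    rw [h2] at h1
    have hcen : ∀ g : G, g * (⁅y, a⁆ * ⁅x, a⁆) = (⁅y, a⁆ * ⁅x, a⁆) * g :=
      fun g => Subgroup.mem_center_iff.1 (mul_mem (hK y hy a ha) (hK x hx a ha)) g
    rw [← mul_assoc ⁅x, y⁆, hcen, mul_assoc _ a, mul_assoc _ ⁅x, y⁆] at h1
    exact mul_left_cancel h1
  rw [eq_top_iff]
  intro x _
  rw [Subgroup.mem_upperCentralSeries_succ_iff]
  intro y
  rw [Subgroup.mem_upperCentralSeries_succ_iff]
  intro z
  rw [Subgroup.upperCentralSeries_one, Subgroup.mem_center_iff]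
  intro w
  apply Subtype.ext
  have hz := hK (z : G) z.2 _ (hK2 x x.2 y y.2)
  have h' : (((⁅⁅x, y⁆, z⁆ : ↥(Subgroup.closure S))) : G) = ⁅(z : G), ⁅(x : G), (y : G)⁆⁆⁻¹ := by
    simp only [commutatorElement_def, Subgroup.coe_mul, Subgroup.coe_inv]; group
  simp only [Subgroup.coe_mul]
  rw [h']
  exact Subgroup.mem_center_iff.1 (inv_mem hz) w

end Cfsg.Agent.Lib.ClassSizeMin.Basic
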